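import Groth.Agent.Lib.PullBC11.Crit
import Groth.Agent.Lib.ModM1.Pull
import Mathlib.RingTheory.LocalProperties.Exactness
import Mathlib.RingTheory.Localization.BaseChange

/-!
# Sections of a pullback over affine opens
-/

set_option autoImplicit false
set_option linter.style.haveILetI false
set_option backward.isDefEq.respectTransparency.types false

universe u

open CategoryTheory Limits AlgebraicGeometry TopologicalSpace Opposite TensorProduct

namespace Groth.Agent.PullSect12

theorem exists_primeIdealOf_eq {X : Scheme.{u}} {U : X.Opens} (hU : IsAffineOpen U)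
    (p : PrimeSpectrum Γ(X, U)) : ∃ (x : X) (hx : x ∈ U), hU.primeIdealOf ⟨x, hx⟩ = p := by
  have hx : hU.fromSpec p ∈ U := by
    rw [← SetLike.mem_coe, ← hU.range_fromSpec]; exact ⟨p, rfl⟩
  exact ⟨hU.fromSpec p, hx,
    hU.fromSpec.isOpenEmbedding.injective (hU.fromSpec_primeIdealOf ⟨hU.fromSpec p, hx⟩)⟩

variable {X Y : Scheme.{u}} (f : Y ⟶ X) (F : X.Modules) [Coh.IsQCoh F]

/-- Over affine opens, the sections of the pullback are the base change of the sections. -/
theorem isBC_unit {W : X.Opens} (hW : IsAffineOpen W) {V : Y.Opens} (hV : IsAffineOpen V) (e : V ≤ f ⁻¹ᵁ W) :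
    PullBC11.IsBC ((Scheme.Modules.pullbackPushforwardAdjunction f).unit.app F) e := by
  let F' := (Scheme.Modules.pullback f).obj F
  let θ := (Scheme.Modules.pullbackPushforwardAdjunction f).unit.app F
  haveI : Coh.IsQCoh F' := M1.isQCoh_pullback f inferInstance
  letI := (f.appLE W V e).hom.toAlgebra
  letI := PullBC11.baseModule (g := f) F' e
  haveI : IsScalarTower Γ(X, W) Γ(Y, V) Γ(F', V) := IsScalarTower.of_algebraMap_smul fun _ _ => rfl
  let G : Γ(Y, V) ⊗[Γ(X, W)] Γ(F, W) →ₗ[Γ(Y, V)] Γ(F', V) := (PullBC11.sect θ e).liftBaseChange Γ(Y, V)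
  suffices hb : Function.Bijective G from
    IsBaseChange.of_equiv (LinearEquiv.ofBijective G hb) fun s => LinearMap.liftBaseChange_one_tmul _ _ _
  have H : ∀ (P : Ideal Γ(Y, V)) [P.IsMaximal], ∃ (N : Type u) (_ : AddCommGroup N) (_ : Module Γ(Y, V) N)
      (b : Γ(F', V) →ₗ[Γ(Y, V)] N),
      IsLocalizedModule P.primeCompl b ∧ IsLocalizedModule P.primeCompl (b ∘ₗ G) := by
    intro P hP
    obtain ⟨y, hy, hyP⟩ := exists_primeIdealOf_eq hV ⟨P, hP.isPrime⟩
    obtain rfl : (hV.primeIdealOf ⟨y, hy⟩).asIdeal = P := by rw [hyP]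
    have hyW : f y ∈ W := e hy
    letI := M1.stalkModule F' hy
    refine ⟨(F'.presheaf.stalk y : Type u), inferInstance, inferInstance, M1.germₗ F' hy,
      M1.isLocalizedModule_germ F' hV hy, ?_⟩
    letI algY : Algebra Γ(Y, V) (Y.presheaf.stalk y) := Y.presheaf.algebra_section_stalk ⟨y, hy⟩
    haveI : IsLocalization.AtPrime (Y.presheaf.stalk y) (hV.primeIdealOf ⟨y, hy⟩).asIdeal :=
      hV.isLocalization_stalk ⟨y, hy⟩
    letI : Algebra Γ(X, W) (X.presheaf.stalk (f y)) := X.presheaf.algebra_section_stalk ⟨f y, hyW⟩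
    haveI : IsLocalization.AtPrime (X.presheaf.stalk (f y)) (hW.primeIdealOf ⟨f y, hyW⟩).asIdeal :=
      hW.isLocalization_stalk ⟨f y, hyW⟩
    letI := M1.stalkModule F hyW
    haveI : IsScalarTower Γ(X, W) (X.presheaf.stalk (f y)) (F.presheaf.stalk (f y) : Type u) :=
      IsScalarTower.of_algebraMap_smul fun _ _ => rfl
    haveI := M1.isLocalizedModule_germ F hW hyW
    have h1 : IsBaseChange (X.presheaf.stalk (f y)) (M1.germₗ F hyW) :=
      IsLocalizedModule.isBaseChange (hW.primeIdealOf ⟨f y, hyW⟩).asIdeal.primeCompl _ _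
    letI : Algebra Γ(X, W) (Y.presheaf.stalk y) :=
      ((algebraMap Γ(Y, V) (Y.presheaf.stalk y)).comp (algebraMap Γ(X, W) Γ(Y, V))).toAlgebra
    haveI : IsScalarTower Γ(X, W) Γ(Y, V) (Y.presheaf.stalk y) :=
      IsScalarTower.of_algebraMap_eq fun _ => rfl
    have hgerm : ∀ r : Γ(X, W), Y.presheaf.germ V y hy (f.appLE W V e r) =
        f.stalkMap y (X.presheaf.germ W (f y) hyW r) := fun r => by
      rw [Scheme.Hom.germ_stalkMap_apply]
      exact Y.presheaf.germ_res_apply (homOfLE e) y hy _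
    haveI : IsScalarTower Γ(X, W) (X.presheaf.stalk (f y)) (Y.presheaf.stalk y) :=
      IsScalarTower.of_algebraMap_eq hgerm
    letI : Module Γ(X, W) (F'.presheaf.stalk y : Type u) := Module.compHom _ (algebraMap Γ(X, W) Γ(Y, V))
    haveI : IsScalarTower Γ(X, W) Γ(Y, V) (F'.presheaf.stalk y : Type u) :=
      IsScalarTower.of_algebraMap_smul fun _ _ => rfl
    haveI : IsScalarTower Γ(Y, V) (Y.presheaf.stalk y) (F'.presheaf.stalk y : Type u) :=
      IsScalarTower.of_algebraMap_smul fun _ _ => rfl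
    haveI : IsScalarTower Γ(X, W) (Y.presheaf.stalk y) (F'.presheaf.stalk y : Type u) :=
      IsScalarTower.of_algebraMap_smul fun _ _ => rfl
    haveI : IsScalarTower Γ(X, W) (X.presheaf.stalk (f y)) (F'.presheaf.stalk y : Type u) :=
      IsScalarTower.of_algebraMap_smul fun r a => by
        show f.stalkMap y (X.presheaf.germ W (f y) hyW r) • a = Y.presheaf.germ V y hy (f.appLE W V e r) • a
        rw [hgerm]
    have h2 : IsBaseChange (Y.presheaf.stalk y)
        (((M2.stalkUnit f y F).restrictScalars Γ(X, W)).comp (M1.germₗ F hyW)) :=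
      h1.comp (M2.isBaseChange_stalkUnit f y F)
    refine (isLocalizedModule_iff_isBaseChange (hV.primeIdealOf ⟨y, hy⟩).asIdeal.primeCompl
      (Y.presheaf.stalk y) _).2 ?_
    refine IsBaseChange.of_comp (T := Y.presheaf.stalk y) (O := (F'.presheaf.stalk y : Type u))
      (h := M1.germₗ F' hy ∘ₗ G) (TensorProduct.isBaseChange _ _ Γ(Y, V)) ?_
    refine Eq.mp (congrArg (IsBaseChange (Y.presheaf.stalk y)) ?_) h2
    refine LinearMap.ext fun s => ?_
    show M2.stalkUnit f y F (F.presheaf.germ W (f y) hyW s) = F'.presheaf.germ V y hy (G (1 ⊗ₜ s))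
    rw [show G (1 ⊗ₜ s) = PullBC11.sect θ e s from LinearMap.liftBaseChange_one_tmul _ _ _]
    refine (M2.stalkUnitHom_germ f y F hyW s).trans ?_
    exact (TopCat.Presheaf.germ_res_apply F'.presheaf (homOfLE e) y hy _).symm
  choose N i1 i2 b hb₁ hb₂ using H
  letI : ∀ (P : Ideal Γ(Y, V)) [P.IsMaximal], AddCommGroup (N P) := i1
  letI : ∀ (P : Ideal Γ(Y, V)) [P.IsMaximal], Module Γ(Y, V) (N P) := i2
  haveI : ∀ (P : Ideal Γ(Y, V)) [P.IsMaximal], IsLocalizedModule P.primeCompl (b P) := hb₁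
  haveI : ∀ (P : Ideal Γ(Y, V)) [P.IsMaximal], IsLocalizedModule P.primeCompl (b P ∘ₗ G) := hb₂
  refine bijective_of_isLocalized_maximal (fun P _ => N P) (fun P _ => b P ∘ₗ G) (fun P _ => N P)
    (fun P _ => b P) G fun P _ => ?_
  rw [show IsLocalizedModule.map P.primeCompl (b P ∘ₗ G) (b P) G = LinearMap.id from
    IsLocalizedModule.linearMap_ext P.primeCompl (b P ∘ₗ G) (b P)
      ((IsLocalizedModule.map_comp P.primeCompl _ _ G).trans (LinearMap.id_comp _).symm)]
  exact Function.bijective_id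

end Groth.Agent.PullSect12
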